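import Groth.Agent.Torelli.Geom
import Groth.Agent.GrpField.SchImgSmooth

/-!
Torelli's theorem over an algebraically closed field, by Weil's argument.
-/

set_option autoImplicit false
set_option backward.isDefEq.respectTransparency false
set_option backward.isDefEq.respectTransparency.types false
set_option linter.style.haveILetI false
set_option linter.unusedSectionVars false
set_option maxHeartbeats 1600000

universe u

open CategoryTheory CategoryTheory.Limits AlgebraicGeometry TopologicalSpace MonoidalCategory CartesianMonoidalCategory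
open PicF
open scoped MonObj Pointwise
open Groth.Agent.W7Cube (pull pull_pull pull_cls)
open Groth.Agent.SubGen (rpt exists_rpt rpt_mem_closedPoints map_rpt)
open Groth.Agent.PicCurve

attribute [local instance] Groth.Agent.W7Cube.law

noncomputable section

namespace Groth.Agent.Torelli

section Field

variable {k : Type u} [Field k] {C : Scheme.{u}} [C.Over (Spec (CommRingCat.of k))]
  [IsProper (C ↘ Spec (CommRingCat.of k))] [Smooth (C ↘ Spec (CommRingCat.of k))]
  [GeometricallyConnected (C ↘ Spec (CommRingCat.of k))] [GeometricallyIrreducible (C ↘ Spec (CommRingCat.of k))]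
  [SmoothOfRelativeDimension 1 (C ↘ Spec (CommRingCat.of k))] [IsIntegral C]
  {J : Over (Spec (CommRingCat.of k))} [GrpObj J] [IsCommMonObj J] (hd : topologicalKrullDim C = 1)

include hd in
/-- The Abel map of a coarse Jacobian is a closed immersion. -/
theorem isClosedImmersion_abel (hg : 0 < Curv2.genus k C)
    (σ : {τ : Spec (CommRingCat.of k) ⟶ C // τ ≫ (C ↘ Spec (CommRingCat.of k)) = 𝟙 _})
    (ψ : (ModFun.PicDeg (C ↘ Spec (CommRingCat.of k)) 0).Hom ⊤ J)
    (hJ : Jac.IsJacobian (C ↘ Spec (CommRingCat.of k)) ⊤ J ψ) [IsProper J.hom]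
    (j : Over.mk (C ↘ Spec (CommRingCat.of k)) ⟶ J) (hj : Jac.IsAbelJacobiAt (C ↘ Spec (CommRingCat.of k)) σ.1 ψ j) :
    IsClosedImmersion j.left := by
  obtain ⟨hP, huniv⟩ := albanese_of_isJacobian (C ↘ Spec (CommRingCat.of k)) hd σ.1 σ.2 hg J ψ hJ j hj
  haveI : IsProper (Over.mk (C ↘ Spec (CommRingCat.of k))).hom := inferInstanceAs (IsProper (C ↘ Spec (CommRingCat.of k)))
  haveI : Smooth (Over.mk (C ↘ Spec (CommRingCat.of k))).hom := inferInstanceAs (Smooth (C ↘ Spec (CommRingCat.of k)))
  haveI : GeometricallyIrreducible (Over.mk (C ↘ Spec (CommRingCat.of k))).hom :=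
    inferInstanceAs (GeometricallyIrreducible (C ↘ Spec (CommRingCat.of k)))
  haveI : GeometricallyConnected (Over.mk (C ↘ Spec (CommRingCat.of k))).hom :=
    inferInstanceAs (GeometricallyConnected (C ↘ Spec (CommRingCat.of k)))
  haveI : IsIntegral (Over.mk (C ↘ Spec (CommRingCat.of k))).left := inferInstanceAs (IsIntegral C)
  obtain ⟨A, G, h, hpA, hiA, hh, hcl⟩ := exists_closedImmersion_abelian (Over.mk (C ↘ Spec (CommRingCat.of k))) hd hg
    (basePt (C ↘ Spec (CommRingCat.of k)) σ.1 σ.2)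
  letI := G
  haveI := hpA
  haveI := hiA
  obtain ⟨χ, ⟨-, hχ⟩, -⟩ := huniv A h hh
  haveI := hcl
  haveI : IsSeparated χ.left := by
    haveI : IsSeparated (χ.left ≫ A.hom) := by rw [Over.w χ]; infer_instance
    exact IsSeparated.of_comp χ.left A.hom
  haveI : IsClosedImmersion (j.left ≫ χ.left) := by rw [← Over.comp_left, hχ]; exact hcl
  exact IsClosedImmersion.of_comp j.left χ.left

end Field

variable {k : Type u} [Field k] [IsAlgClosed k] {C : Scheme.{u}} [C.Over (Spec (CommRingCat.of k))]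
  [IsProper (C ↘ Spec (CommRingCat.of k))] [Smooth (C ↘ Spec (CommRingCat.of k))]
  [GeometricallyConnected (C ↘ Spec (CommRingCat.of k))] [GeometricallyIrreducible (C ↘ Spec (CommRingCat.of k))]
  [SmoothOfRelativeDimension 1 (C ↘ Spec (CommRingCat.of k))] [IsIntegral C]
  {J : Over (Spec (CommRingCat.of k))} [GrpObj J] [IsCommMonObj J] (hd : topologicalKrullDim C = 1)

/-- The rational points of the image of a morphism from the curve. -/
theorem mem_range_left [IsProper J.hom] (h : Over.mk (C ↘ Spec (CommRingCat.of k)) ⟶ J)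
    (x : (𝟙_ (Over (Spec (CommRingCat.of k)))) ⟶ J) :
    rpt x ∈ Set.range h.left.base ↔
      ∃ τ : {τ : Spec (CommRingCat.of k) ⟶ C // τ ≫ (C ↘ Spec (CommRingCat.of k)) = 𝟙 _},
        (Over.homMk τ.1 τ.2 : (𝟙_ (Over (Spec (CommRingCat.of k)))) ⟶ Over.mk (C ↘ Spec (CommRingCat.of k))) ≫ h = x := by
  haveI : LocallyOfFiniteType (Over.mk (C ↘ Spec (CommRingCat.of k))).hom :=
    inferInstanceAs (LocallyOfFiniteType (C ↘ Spec (CommRingCat.of k)))
  constructor
  · intro hx
    obtain ⟨z, hz⟩ := Chev.Borel.exists_rp_of_mem_range h x hx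
    exact ⟨⟨z.left, Over.w z⟩, hz⟩
  · rintro ⟨τ, rfl⟩
    rw [← map_rpt]
    exact Set.mem_range_self _

include hd in
/-- Rational points in the image of the curve under a signed translate of the Abel map. -/
theorem pts_range_zpow {σ : {τ : Spec (CommRingCat.of k) ⟶ C // τ ≫ (C ↘ Spec (CommRingCat.of k)) = 𝟙 _}}
    {j : Over.mk (C ↘ Spec (CommRingCat.of k)) ⟶ J} (D : JacData σ J j)
    (c : (𝟙_ (Over (Spec (CommRingCat.of k)))) ⟶ J) :
    pts (Set.range (j * (toUnit _ ≫ c)).left.base) = c • pts (Set.range (sumMap j 1).left.base) ∧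
    pts (Set.range (j⁻¹ * (toUnit _ ≫ c)).left.base) = c • (pts (Set.range (sumMap j 1).left.base))⁻¹ := by
  haveI := D.proper
  have hval : ∀ (q : (𝟙_ (Over (Spec (CommRingCat.of k)))) ⟶ Over.mk (C ↘ Spec (CommRingCat.of k)))
      (h : Over.mk (C ↘ Spec (CommRingCat.of k)) ⟶ J), q ≫ (h * (toUnit _ ≫ c)) = (q ≫ h) * c := fun q h => by
    rw [MonObj.comp_mul, ← Category.assoc, toUnit_unique (q ≫ toUnit _) (𝟙 _), Category.id_comp]
  constructor <;> ext x <;>
    rw [mem_pts, mem_range_left, Set.mem_smul_set_iff_inv_smul_mem, smul_eq_mul]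
  · rw [mem_pts, mem_range_one hd D]
    refine exists_congr fun τ => ?_
    rw [hval, eq_inv_mul_iff_mul_eq, mul_comm]
  · rw [Set.mem_inv, mem_pts, mem_range_one hd D, mul_inv, inv_inv]
    refine exists_congr fun τ => ?_
    rw [hval, GrpObj.comp_inv, eq_mul_inv_iff_mul_eq, inv_mul_eq_iff_eq_mul]
    exact eq_comm

end Groth.Agent.Torelli
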