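import Groth.Agent.Torelli.Main
import Groth.Agent.PicTheta.BarPrincipal
import Mathlib.FieldTheory.Galois.Infinite

/-!
Rational points over an algebraic closure with the action of the Galois group, for the descent in Torelli's theorem.
-/

set_option autoImplicit false
set_option backward.isDefEq.respectTransparency false
set_option backward.isDefEq.respectTransparency.types false
set_option linter.style.haveILetI false
set_option linter.unusedSectionVars false
set_option maxHeartbeats 1600000

universe u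

open CategoryTheory CategoryTheory.Limits AlgebraicGeometry TopologicalSpace MonoidalCategory CartesianMonoidalCategory
open PicF
open scoped MonObj Pointwise
open Groth.Agent.W7Cube (pull pull_pull pull_cls)
open Groth.Agent.SubGen (rpt exists_rpt rpt_mem_closedPoints map_rpt)
open Groth.Agent.PicCurve Groth.Agent.PicTheta.Bar
open Groth.Agent.AgBC (toDn toDn_left toDn_mul)

attribute [local instance] Groth.Agent.W7Cube.law

noncomputable section

namespace Groth.Agent.Torelli

section Points

variable {k K : Type u} [Field k] [Field K] (p : Spec (CommRingCat.of K) ⟶ Spec (CommRingCat.of k))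
  {J : Over (Spec (CommRingCat.of k))} [GrpObj J]

/-- A rational point over the extension as a point with values in the extension. -/
def toV (x : (𝟙_ (Over (Spec (CommRingCat.of K)))) ⟶ Red.bc p J) : Over.mk p ⟶ J :=
  Over.homMk (x.left ≫ pullback.fst J.hom p) (by
    show (x.left ≫ pullback.fst J.hom p) ≫ J.hom = p
    rw [Category.assoc, pullback.condition, ← Category.assoc,
      show x.left ≫ pullback.snd J.hom p = 𝟙 _ from Over.w x]
    exact Category.id_comp p)

theorem toV_xOf (v : Over.mk p ⟶ J) : toV p (xOf p v) = v := Over.OverMorphism.ext (xOf_fst p v)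

theorem xOf_toV (x : (𝟙_ (Over (Spec (CommRingCat.of K)))) ⟶ Red.bc p J) : xOf p (toV p x) = x :=
  Over.OverMorphism.ext (pullback.hom_ext (pullback.lift_fst _ _ _)
    ((pullback.lift_snd _ _ _).trans (Over.w x).symm))

theorem toV_mul (x y : (𝟙_ (Over (Spec (CommRingCat.of K)))) ⟶ Red.bc p J) :
    toV p (x * y) = toV p x * toV p y := by
  let i : Over.mk p ⟶ downOver p (𝟙_ (Over (Spec (CommRingCat.of K)))) := Over.homMk (𝟙 _)
    ((Category.id_comp _).trans (Category.id_comp p))
  have h : ∀ z : (𝟙_ (Over (Spec (CommRingCat.of K)))) ⟶ Red.bc p J, toV p z = i ≫ toDn p z := fun z =>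
    Over.OverMorphism.ext (by
      show z.left ≫ pullback.fst J.hom p = 𝟙 _ ≫ (toDn p z).left
      rw [toDn_left]
      exact (Category.id_comp _).symm)
  rw [h, h, h, toDn_mul, MonObj.comp_mul]

theorem xOf_mul (v w : Over.mk p ⟶ J) : xOf p (v * w) = xOf p v * xOf p w := by
  rw [← toV_xOf p v, ← toV_xOf p w, ← toV_mul, xOf_toV, xOf_toV, xOf_toV]

/-- Points with values in the extension form the group of rational points over the extension. -/
def ptEquiv : ((𝟙_ (Over (Spec (CommRingCat.of K)))) ⟶ Red.bc p J) ≃* (Over.mk p ⟶ J) :=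
  { toFun := toV p, invFun := xOf p, left_inv := xOf_toV p, right_inv := toV_xOf p, map_mul' := toV_mul p }

theorem mem_pts_preimage [IsAlgClosed K] {Z : Set J.left} (v : Over.mk p ⟶ J) :
    xOf p v ∈ pts (J := Red.bc p J) (pullback.fst J.hom p ⁻¹' Z) ↔
      v.left (IsLocalRing.closedPoint K : (Over.mk p).left) ∈ Z := by
  rw [mem_pts, Set.mem_preimage, rpt_xOf]

theorem toV_ptK (a : (𝟙_ (Over (Spec (CommRingCat.of k)))) ⟶ J) : toV p (ptK p a) = toUnit (Over.mk p) ≫ a :=
  toV_xOf p _

end Points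

section Galois

variable {k : Type u} [Field k] {J : Over (Spec (CommRingCat.of k))}

/-- The structure morphism of the algebraic closure. -/
abbrev pBar (k : Type u) [Field k] : Spec (CommRingCat.of (AlgebraicClosure k)) ⟶ Spec (CommRingCat.of k) :=
  Spec.map (CommRingCat.ofHom (algebraMap k (AlgebraicClosure k)))

/-- The action of an automorphism of the algebraic closure. -/
def galHom (τ : AlgebraicClosure k ≃ₐ[k] AlgebraicClosure k) : Over.mk (pBar k) ⟶ Over.mk (pBar k) :=
  Over.homMk (Spec.map (CommRingCat.ofHom τ.toAlgHom.toRingHom)) (by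
    show Spec.map _ ≫ Spec.map _ = Spec.map _
    rw [← Spec.map_comp]
    congr 1
    ext x
    exact τ.commutes x)

theorem gal_pt (τ : AlgebraicClosure k ≃ₐ[k] AlgebraicClosure k) (v : Over.mk (pBar k) ⟶ J) :
    (galHom τ ≫ v).left (IsLocalRing.closedPoint _ : (Over.mk (pBar k)).left) =
      v.left (IsLocalRing.closedPoint _ : (Over.mk (pBar k)).left) := by
  haveI : Subsingleton ↥(Over.mk (pBar k)).left := inferInstanceAs (Subsingleton (PrimeSpectrum (AlgebraicClosure k)))
  rw [Over.comp_left]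
  exact (Scheme.Hom.comp_apply _ _ _).trans (congrArg _ (Subsingleton.elim _ _))

/-- A point fixed by the Galois group of a perfect field is rational. -/
theorem exists_descend [PerfectField k] (v : Over.mk (pBar k) ⟶ J) (hv : ∀ τ, galHom τ ≫ v = v) :
    ∃ c : (𝟙_ (Over (Spec (CommRingCat.of k)))) ⟶ J, toUnit (Over.mk (pBar k)) ≫ c = v := by
  let K := AlgebraicClosure k
  haveI : IsGalois k K := ⟨⟩
  let vl : Spec (CommRingCat.of K) ⟶ J.left := v.left
  let y : J.left := vl (IsLocalRing.closedPoint K)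
  let φ : J.left.residueField y ⟶ CommRingCat.of K :=
    Scheme.descResidueField (Scheme.stalkClosedPointTo vl)
  have hφ : Spec.map φ ≫ J.left.fromSpecResidueField y = v.left :=
    Scheme.descResidueField_stalkClosedPointTo_fromSpecResidueField K J.left vl
  have hfix : ∀ z, φ.hom z ∈ (algebraMap k K).range := fun z => by
    have hmem : φ.hom z ∈ IntermediateField.fixedField (⊤ : Subgroup (K ≃ₐ[k] K)) := by
      rw [IntermediateField.mem_fixedField_iff]
      intro τ _
      have h1 : Spec.map (φ ≫ CommRingCat.ofHom τ.toAlgHom.toRingHom) ≫ J.left.fromSpecResidueField y =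
          Spec.map φ ≫ J.left.fromSpecResidueField y := by
        rw [Spec.map_comp, Category.assoc, hφ]
        exact congrArg CommaMorphism.left (hv τ)
      have h2 := Spec.map_injective ((cancel_mono (J.left.fromSpecResidueField y)).1 h1)
      exact congr((CommRingCat.Hom.hom $h2) z)
    rw [InfiniteGalois.fixedField_bot, IntermediateField.mem_bot] at hmem
    exact hmem
  choose θ hθ using hfix
  let θ' : J.left.residueField y →+* k :=
    { toFun := θ
      map_one' := (algebraMap k K).injective (by rw [hθ, map_one, map_one])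
      map_mul' := fun a b => (algebraMap k K).injective (by rw [hθ, map_mul, map_mul, hθ, hθ])
      map_zero' := (algebraMap k K).injective (by rw [hθ, map_zero, map_zero])
      map_add' := fun a b => (algebraMap k K).injective (by rw [hθ, map_add, map_add, hθ, hθ]) }
  have hφθ : φ = CommRingCat.ofHom θ' ≫ CommRingCat.ofHom (algebraMap k K) := by
    ext z
    exact (hθ z).symm
  let w : Spec (CommRingCat.of k) ⟶ J.left := Spec.map (CommRingCat.ofHom θ') ≫ J.left.fromSpecResidueField y
  have hpw : pBar k ≫ w = v.left := by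
    rw [← hφ, hφθ, Spec.map_comp, Category.assoc]
  have hw : w ≫ J.hom = 𝟙 _ := by
    obtain ⟨m, hm⟩ : ∃ m : CommRingCat.of k ⟶ CommRingCat.of k, Spec.map m = w ≫ J.hom :=
      ⟨_, Spec.map_preimage _⟩
    have h : pBar k ≫ Spec.map m = pBar k := by rw [hm, ← Category.assoc, hpw]; exact Over.w v
    rw [← Spec.map_comp] at h
    have h' := Spec.map_injective h
    rw [← hm, ← Spec.map_id]
    congr 1
    ext z
    exact (algebraMap k K).injective congr((CommRingCat.Hom.hom $h') z)
  refine ⟨Over.homMk w hw, Over.OverMorphism.ext ?_⟩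
  rw [Over.comp_left, show (toUnit (Over.mk (pBar k))).left = pBar k from
    (Category.comp_id _).symm.trans (Over.w _)]
  exact hpw

end Galois

section Curve

variable {k : Type u} [Field k] {C : Scheme.{u}} [C.Over (Spec (CommRingCat.of k))]
  [IsProper (C ↘ Spec (CommRingCat.of k))] [Smooth (C ↘ Spec (CommRingCat.of k))]
  [GeometricallyConnected (C ↘ Spec (CommRingCat.of k))]
  [SmoothOfRelativeDimension 1 (C ↘ Spec (CommRingCat.of k))]
  {J : Over (Spec (CommRingCat.of k))} [GrpObj J] [IsCommMonObj J]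

theorem qMap_one_one (j : Over.mk (C ↘ Spec (CommRingCat.of k)) ⟶ J) :
    Set.range (qMap j 1 1).left = Set.range j.left := by
  rw [qMap_eq, MonObj.comp_one, _root_.mul_one]
  let π : Over.mk (WidePullback.base fun (_ : Fin 1) => (C ↘ Spec (CommRingCat.of k))) ⟶
      Over.mk (C ↘ Spec (CommRingCat.of k)) :=
    Over.homMk (WidePullback.π (fun (_ : Fin 1) => (C ↘ Spec (CommRingCat.of k))) 0) (WidePullback.π_arrow _ _)
  have hs : sumMap j 1 = π ≫ j := by
    simp only [sumMap, List.ofFn_succ, List.ofFn_zero, List.prod_cons, List.prod_nil]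
    exact _root_.mul_one _
  rw [hs, Over.comp_left]
  refine subset_antisymm ?_ ?_
  · rintro _ ⟨w, rfl⟩
    exact ⟨π.left w, (Scheme.Hom.comp_apply _ _ _).symm⟩
  · rintro _ ⟨z, rfl⟩
    let s : Over.mk (C ↘ Spec (CommRingCat.of k)) ⟶ Over.mk (WidePullback.base fun (_ : Fin 1) => (C ↘ Spec (CommRingCat.of k))) :=
      tupleHom (C ↘ Spec (CommRingCat.of k)) 1 fun _ => 𝟙 _
    have hsπ : s ≫ π = 𝟙 _ := tupleHom_proj (C ↘ Spec (CommRingCat.of k)) 1 (fun _ => 𝟙 _) 0
    refine ⟨s.left z, ?_⟩
    show (π.left ≫ j.left) (s.left z) = _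
    rw [← Over.comp_left, ← Scheme.Hom.comp_apply, ← Over.comp_left, ← Category.assoc, hsπ, Category.id_comp]

theorem qMap_comp {J' : Over (Spec (CommRingCat.of k))} [GrpObj J'] [IsCommMonObj J']
    (j : Over.mk (C ↘ Spec (CommRingCat.of k)) ⟶ J) (β : J ⟶ J') [IsMonHom β] (r : ℕ)
    (a : (𝟙_ (Over (Spec (CommRingCat.of k)))) ⟶ J) : qMap j r a ≫ β = qMap (j ≫ β) r (a ≫ β) := by
  rw [qMap_eq, qMap_eq, MonObj.mul_comp, Category.assoc]
  refine congrArg (· * _) ?_
  let W := Over.mk (WidePullback.base fun (_ : Fin r) => (C ↘ Spec (CommRingCat.of k)))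
  let post : (W ⟶ J) →* (W ⟶ J') := MonoidHom.mk' (fun m => m ≫ β) fun x y => MonObj.mul_comp x y β
  show post _ = _
  rw [sumMap, sumMap, List.prod_ofFn, List.prod_ofFn, map_prod]
  refine Finset.prod_congr rfl fun i _ => ?_
  show (_ ≫ j) ≫ β = _
  exact Category.assoc _ _ _

theorem transl_comp' (a b : (𝟙_ (Over (Spec (CommRingCat.of k)))) ⟶ J) :
    Jac.transl J a ≫ Jac.transl J b = Jac.transl J (a * b) := by
  rw [Jac.transl, Jac.transl, MonObj.comp_mul, Category.comp_id, ← Category.assoc,
    toUnit_unique ((𝟙 J * (toUnit J ≫ a)) ≫ toUnit J) (toUnit J), mul_assoc, ← MonObj.comp_mul]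
  rfl

theorem transl_one' : Jac.transl J (1 : (𝟙_ (Over (Spec (CommRingCat.of k)))) ⟶ J) = 𝟙 J := by
  rw [Jac.transl, MonObj.comp_one, _root_.mul_one]

/-- There is an Abel map for class data of a Jacobian. -/
theorem exists_abel (hd : topologicalKrullDim C = 1) [GeometricallyIrreducible (C ↘ Spec (CommRingCat.of k))] [IsIntegral C]
    (σ : {τ : Spec (CommRingCat.of k) ⟶ C // τ ≫ (C ↘ Spec (CommRingCat.of k)) = 𝟙 _})
    {ξ : PicLoc.PicSet (XT (C ↘ Spec (CommRingCat.of k)) J)}
    (hc : Classifies (C ↘ Spec (CommRingCat.of k)) σ.1 σ.2 (Zero (C ↘ Spec (CommRingCat.of k))) J ξ) :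
    ∃ j : Over.mk (C ↘ Spec (CommRingCat.of k)) ⟶ J, pull (XTmap (C ↘ Spec (CommRingCat.of k)) j) ξ =
      abelCl (C ↘ Spec (CommRingCat.of k)) σ.1 σ.2 (Over.mk (C ↘ Spec (CommRingCat.of k))) (𝟙 C) (Category.id_comp _) :=
  (hc _ _ (rigify_mem _ σ.1 σ.2 _ _) (zero_abelCl _ σ.1 σ.2 (fun z => (dim_fiber_spec _ z).trans hd) _ _ _)).exists

/-- The Abel map of class data of a Jacobian is a closed immersion. -/
theorem isClosedImmersion_jacData (hd : topologicalKrullDim C = 1)
    [GeometricallyIrreducible (C ↘ Spec (CommRingCat.of k))] [IsIntegral C] (hg : 0 < Curv2.genus k C)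
    {σ : {τ : Spec (CommRingCat.of k) ⟶ C // τ ≫ (C ↘ Spec (CommRingCat.of k)) = 𝟙 _}}
    [Smooth J.hom] [GeometricallyIrreducible J.hom]
    {j : Over.mk (C ↘ Spec (CommRingCat.of k)) ⟶ J} (D : JacData σ J j) : IsClosedImmersion j.left := by
  haveI := D.proper
  haveI : IsProper (Over.mk (C ↘ Spec (CommRingCat.of k))).hom := inferInstanceAs (IsProper (C ↘ Spec (CommRingCat.of k)))
  haveI : Smooth (Over.mk (C ↘ Spec (CommRingCat.of k))).hom := inferInstanceAs (Smooth (C ↘ Spec (CommRingCat.of k)))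
  haveI : GeometricallyIrreducible (Over.mk (C ↘ Spec (CommRingCat.of k))).hom :=
    inferInstanceAs (GeometricallyIrreducible (C ↘ Spec (CommRingCat.of k)))
  haveI : GeometricallyConnected (Over.mk (C ↘ Spec (CommRingCat.of k))).hom :=
    inferInstanceAs (GeometricallyConnected (C ↘ Spec (CommRingCat.of k)))
  haveI : IsIntegral (Over.mk (C ↘ Spec (CommRingCat.of k))).left := inferInstanceAs (IsIntegral C)
  obtain ⟨A, G, h, hpA, hiA, hh, hcl⟩ := exists_closedImmersion_abelian (Over.mk (C ↘ Spec (CommRingCat.of k))) hd hg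
    (basePt (C ↘ Spec (CommRingCat.of k)) σ.1 σ.2)
  letI := G
  haveI := hpA
  haveI := hiA
  obtain ⟨χ, ⟨-, hχ⟩, -⟩ := albanese (C ↘ Spec (CommRingCat.of k)) σ.1 σ.2 hd _ (Nat.succ_pred_eq_of_pos hg).symm J D.ξ
    D.mem D.zero D.classifies D.mul j D.abel A h hh
  haveI := hcl
  haveI : IsSeparated χ.left := by
    haveI : IsSeparated (χ.left ≫ A.hom) := by rw [Over.w χ]; infer_instance
    exact IsSeparated.of_comp χ.left A.hom
  haveI : IsClosedImmersion (j.left ≫ χ.left) := by rw [← Over.comp_left, hχ]; exact hcl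
  exact IsClosedImmersion.of_comp j.left χ.left

end Curve

section Over

variable {k K : Type u} [Field k] [Field K] [IsAlgClosed K] {C : Scheme.{u}} [C.Over (Spec (CommRingCat.of k))]
  [IsProper (C ↘ Spec (CommRingCat.of k))] [Smooth (C ↘ Spec (CommRingCat.of k))]
  [GeometricallyConnected (C ↘ Spec (CommRingCat.of k))]
  [SmoothOfRelativeDimension 1 (C ↘ Spec (CommRingCat.of k))]
  {J : Over (Spec (CommRingCat.of k))} [GrpObj J] [IsCommMonObj J]
  (p : Spec (CommRingCat.of K) ⟶ Spec (CommRingCat.of k))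

theorem ptK_one : ptK p (1 : (𝟙_ (Over (Spec (CommRingCat.of k)))) ⟶ J) = 1 := by
  rw [ptK, MonObj.comp_one]
  exact map_one (ptEquiv p (J := J)).symm

theorem smul_pts_eq (j : Over.mk (C ↘ Spec (CommRingCat.of k)) ⟶ J) (r : ℕ)
    (a : (𝟙_ (Over (Spec (CommRingCat.of k)))) ⟶ J) :
    ptK p a • pts (J := Red.bc p J) (Set.range (sumMap (abelB (C ↘ Spec (CommRingCat.of k)) p j) r).left.base) =
      pts (J := Red.bc p J) (pullback.fst J.hom p ⁻¹' Set.range (qMap j r a).left) := by
  rw [← pts_symSet, symSet_eq]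

theorem xOf_mem_range_one (j : Over.mk (C ↘ Spec (CommRingCat.of k)) ⟶ J) (v : Over.mk p ⟶ J) :
    xOf p v ∈ pts (J := Red.bc p J) (Set.range (sumMap (abelB (C ↘ Spec (CommRingCat.of k)) p j) 1).left.base) ↔
      v.left (IsLocalRing.closedPoint K : (Over.mk p).left) ∈ Set.range j.left := by
  rw [← one_smul ((𝟙_ (Over (Spec (CommRingCat.of K)))) ⟶ Red.bc p J) (pts (J := Red.bc p J) (Set.range (sumMap (abelB (C ↘ Spec (CommRingCat.of k)) p j) 1).left.base)),
    ← ptK_one p, smul_pts_eq, mem_pts_preimage, qMap_one_one]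

end Over

end Groth.Agent.Torelli
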