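import Mathlib

/-!
Torelli by Weil's argument, on the group of rational points: two families of sums of a curve with the same
top member up to translation come from the same curve, up to translation and inversion.
-/

set_option autoImplicit false
set_option maxHeartbeats 1000000

open Pointwise

namespace Groth.Agent.Torelli

variable {G : Type*} [CommGroup G]

/-- The properties of the images of the powers of a curve in the rational points of its Jacobian. -/
structure Weil (Cl : Set G → Prop) (g : ℕ) where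
  W : ℕ → Set G
  κ : G
  one_mem : ∀ n, (1 : G) ∈ W n
  mul_mem : ∀ m n, ∀ x ∈ W m, ∀ y ∈ W n, x * y ∈ W (m + n)
  closed : ∀ n, Cl (W n)
  irred : ∀ n A B, Cl A → Cl B → W n ⊆ A ∪ B → W n ⊆ A ∨ W n ⊆ B
  infinite : (W 1).Infinite
  zero : W 0 = {1}
  subset_iff : ∀ r, r ≤ g - 1 → ∀ a b : G, a • W r ⊆ b • W (g - 1) ↔ a ∈ b • W (g - 1 - r)
  reflect : κ • (W (g - 1))⁻¹ = W (g - 1)
  inter : ∀ r e, r + e + 2 = g → ∀ a b : G, ∀ x ∈ W 1, ∀ y ∈ W (e + 1), a * x = b * y →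
    ¬ a • W (r + 1) ⊆ b • W (g - 1) →
    a • W (r + 1) ∩ b • W (g - 1) = (a * x) • W r ∪ a • W (r + 1) ∩ κ • ((y * a⁻¹) • W (g - 2))⁻¹
  div : ∀ a : G, ¬ W 1 ⊆ a • W (g - 1) →
    ∃ D : Fin g → G, Set.range D = W 1 ∩ a • W (g - 1) ∧ ∏ i, D i = a * κ

/-- Closure properties of the closed sets of rational points. -/
structure IsClosedFamily (Cl : Set G → Prop) : Prop where
  empty : Cl ∅
  union : ∀ A B, Cl A → Cl B → Cl (A ∪ B)
  smul : ∀ (a : G) A, Cl A → Cl (a • A)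
  inv : ∀ A, Cl A → Cl A⁻¹

variable {Cl : Set G → Prop} {g : ℕ}

theorem inv_smul_set' (a : G) (S : Set G) : (a • S)⁻¹ = a⁻¹ • S⁻¹ := by
  ext x
  simp only [Set.mem_inv, Set.mem_smul_set_iff_inv_smul_mem, smul_eq_mul, inv_inv]
  rw [mul_inv_rev, mul_comm, ← inv_inv a]

/-- The family of the inverted curve. -/
def Weil.neg (hCl : IsClosedFamily Cl) (A : Weil Cl g) : Weil Cl g where
  W n := (A.W n)⁻¹
  κ := A.κ⁻¹
  one_mem n := by simpa using A.one_mem n
  mul_mem m n x hx y hy := by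
    simp only [Set.mem_inv, mul_inv] at hx hy ⊢
    exact A.mul_mem m n _ hx _ hy
  closed n := hCl.inv _ (A.closed n)
  irred n S T hS hT h := by
    have h' : A.W n ⊆ S⁻¹ ∪ T⁻¹ := by rw [← Set.union_inv]; exact Set.inv_subset.1 h
    exact (A.irred n _ _ (hCl.inv _ hS) (hCl.inv _ hT) h').imp Set.inv_subset.2 Set.inv_subset.2
  infinite := A.infinite.image inv_injective.injOn |>.mono (by rw [Set.image_inv_eq_inv])
  zero := by rw [A.zero, Set.inv_singleton, inv_one]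
  subset_iff r hr a b := by
    have h := A.subset_iff r hr a⁻¹ b⁻¹
    rw [← inv_inv (a⁻¹ • A.W r), ← inv_inv (b⁻¹ • A.W (g - 1)), Set.inv_subset_inv, inv_smul_set',
      inv_smul_set', inv_inv, inv_inv] at h
    rw [h]
    simp [Set.mem_smul_set_iff_inv_smul_mem, mul_comm]
  reflect := by rw [← inv_smul_set', A.reflect]
  inter r e he a b x hx y hy hab hn := by
    simp only [Set.mem_inv] at hx hy
    have h := A.inter r e he a⁻¹ b⁻¹ x⁻¹ hx y⁻¹ hy (by rw [← mul_inv, hab, mul_inv]) (fun hc => hn (by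
      rw [← Set.inv_subset_inv, inv_smul_set', inv_smul_set', inv_inv, inv_inv]; exact hc))
    have h' := congrArg (fun S : Set G => S⁻¹) h
    simp only [Set.inter_inv, Set.union_inv, inv_smul_set', inv_inv, mul_inv] at h' ⊢
    exact h'
  div a ha := by
    obtain ⟨D, hD, hp⟩ := A.div a⁻¹ (fun hc => ha (by
      rw [← Set.inv_subset_inv, inv_inv, inv_smul_set', inv_inv]; exact hc))
    refine ⟨fun i => (D i)⁻¹, ?_, by rw [Finset.prod_inv_distrib, hp, mul_inv, inv_inv]⟩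
    rw [show Set.range (fun i => (D i)⁻¹) = (Set.range D)⁻¹ by
      rw [← Set.image_inv_eq_inv, ← Set.range_comp]; rfl, hD, Set.inter_inv, inv_smul_set', inv_inv]

namespace Weil

variable (A B : Weil Cl g)

theorem prod_mem {ι : Type*} (s : Finset ι) (f : ι → G) (hf : ∀ i ∈ s, f i ∈ A.W 1) :
    ∏ i ∈ s, f i ∈ A.W s.card := by
  classical
  induction s using Finset.induction_on with
  | empty => simpa using A.one_mem 0
  | insert a s ha ih =>
    rw [Finset.prod_insert ha, Finset.card_insert_of_notMem ha, add_comm]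
    exact A.mul_mem 1 _ _ (hf a (Finset.mem_insert_self a s)) _ (ih fun i hi => hf i (Finset.mem_insert_of_mem hi))

theorem not_subset_biUnion (hCl : IsClosedFamily Cl) (n : ℕ) {ι : Type*} (T : Finset ι) (S : ι → Set G)
    (hS : ∀ i ∈ T, Cl (S i) ∧ ¬ A.W n ⊆ S i) : Cl (⋃ i ∈ T, S i) ∧ ¬ A.W n ⊆ ⋃ i ∈ T, S i := by
  classical
  induction T using Finset.induction_on with
  | empty => exact ⟨by simpa using hCl.empty, fun h => by simpa using h (A.one_mem n)⟩
  | insert a T ha ih =>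
    rw [Finset.set_biUnion_insert]
    obtain ⟨h1, h2⟩ := ih fun i hi => hS i (Finset.mem_insert_of_mem hi)
    obtain ⟨h3, h4⟩ := hS a (Finset.mem_insert_self a T)
    exact ⟨hCl.union _ _ h3 h1, fun h => (A.irred n _ _ h3 h1 h).elim h4 h2⟩

/-- More than `g` common points force an inclusion of translated curves. -/
theorem subset_of_card (hg : 2 ≤ g) (e : G) (h : B.W (g - 1) = e • A.W (g - 1)) (c : G) (T : Finset G)
    (hT : ∀ x ∈ T, x ∈ A.W 1 ∧ x ∈ c • B.W 1) (hc : g < T.card) : A.W 1 ⊆ c • B.W 1 := by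
  classical
  intro x₀ hx₀
  by_contra hx
  rw [Set.mem_smul_set_iff_inv_smul_mem, smul_eq_mul] at hx
  have h1 : ¬ (c⁻¹ * x₀) • B.W (g - 2) ⊆ (1 : G) • B.W (g - 1) := by
    rw [B.subset_iff (g - 2) (by omega), show g - 1 - (g - 2) = 1 by omega, one_smul]
    exact hx
  obtain ⟨_, ⟨z, hz, rfl⟩, hz'⟩ := Set.not_subset.1 h1
  simp only [one_smul, smul_eq_mul] at hz'
  have hB : c • B.W 1 ⊆ (c * z⁻¹ * e) • A.W (g - 1) := by
    rw [mul_smul (c * z⁻¹) e, ← h, mul_smul]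
    refine Set.smul_set_mono fun w hw => ?_
    rw [Set.mem_smul_set_iff_inv_smul_mem, inv_inv, smul_eq_mul, show g - 1 = (g - 2) + 1 by omega]
    exact B.mul_mem _ _ z hz w hw
  have hn : ¬ A.W 1 ⊆ (c * z⁻¹ * e) • A.W (g - 1) := fun hs => hz' (by
    have := hs hx₀
    rw [mul_smul (c * z⁻¹) e, ← h, Set.mem_smul_set_iff_inv_smul_mem, smul_eq_mul, mul_inv, inv_inv,
      mul_right_comm] at this
    exact this)
  obtain ⟨D, hD, -⟩ := A.div _ hn
  have hsub : T ⊆ Finset.univ.image D := fun x hx => by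
    obtain ⟨i, hi⟩ : x ∈ Set.range D := hD ▸ ⟨(hT x hx).1, hB (hT x hx).2⟩
    exact Finset.mem_image.2 ⟨i, Finset.mem_univ i, hi⟩
  have := (Finset.card_le_card hsub).trans Finset.card_image_le
  rw [Finset.card_univ, Fintype.card_fin] at this
  omega

theorem eq_of_subset (hg : 2 ≤ g) (e : G) (h : B.W (g - 1) = e • A.W (g - 1)) (c : G)
    (hs : A.W 1 ⊆ c • B.W 1) : B.W 1 = c⁻¹ • A.W 1 := by
  refine subset_antisymm ?_ (by rw [← Set.subset_smul_set_iff]; exact hs)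
  obtain ⟨T, hT, hc⟩ := A.infinite.exists_subset_card_eq (g + 1)
  classical
  refine B.subset_of_card A hg e⁻¹ (by rw [h, inv_smul_smul]) c⁻¹ (T.image (c⁻¹ * ·)) (fun x hx => ?_) ?_
  · obtain ⟨t, ht, rfl⟩ := Finset.mem_image.1 hx
    refine ⟨?_, ⟨t, hT ht, rfl⟩⟩
    have := hs (hT ht)
    rwa [Set.mem_smul_set_iff_inv_smul_mem, smul_eq_mul] at this
  · rw [Finset.card_image_of_injective _ (mul_right_injective _), hc]
    omega

/-- The main step of Weil's argument. -/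
theorem eq_smul_of_minimal (hCl : IsClosedFamily Cl) (hg : 2 ≤ g) (e : G) (h : B.W (g - 1) = e • A.W (g - 1))
    (r d : ℕ) (hrd : r + d + 2 = g) (a : G) (hsub : B.W 1 ⊆ a • A.W (r + 1))
    (hmin : ∀ c : G, ¬ B.W 1 ⊆ c • A.W r ∧ ¬ B.W 1 ⊆ c • (A.W r)⁻¹) : ∃ c : G, B.W 1 = c • A.W 1 := by
  classical
  have hr1 : g - 1 - (d + 1) = r := by omega
  -- translates of the top member
  have hBA : ∀ b : G, b • A.W (g - 1) = (b * e⁻¹) • B.W (g - 1) := fun b => by
    rw [h, smul_smul, inv_mul_cancel_right]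
  have hW : ∀ y ∈ A.W (d + 1), ∀ w ∈ A.W r, y * w ∈ A.W (g - 1) := fun y hy w hw => by
    rw [show g - 1 = d + 1 + r by omega]; exact A.mul_mem _ _ y hy w hw
  have hcap : ∀ v : G, (∀ y ∈ A.W (d + 1), y * v ∈ A.W (g - 1)) → v ∈ A.W r := fun v hv => by
    have := (A.subset_iff (d + 1) (by omega) v 1).1 (by
      rintro _ ⟨y, hy, rfl⟩
      simp only [one_smul, smul_eq_mul]
      rw [mul_comm]
      exact hv y hy)
    rwa [one_smul, hr1] at this
  let bb : G → G → G := fun x y => a * x * y⁻¹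
  let Bad : G → Set G := fun x => (a * x * e⁻¹) • B.W (g - 2)
  have hBad : ∀ x y, B.W 1 ⊆ (bb x y) • A.W (g - 1) → y ∈ Bad x := fun x y hy => by
    rw [hBA, ← one_smul G (B.W 1), B.subset_iff 1 (by omega), show g - 1 - 1 = g - 2 by omega,
      Set.mem_smul_set_iff_inv_smul_mem, smul_eq_mul, mul_one] at hy
    rw [Set.mem_smul_set_iff_inv_smul_mem, smul_eq_mul]
    refine (congrArg (· ∈ B.W (g - 2)) ?_).mp hy
    simp only [bb, mul_inv, inv_inv]
    ac_rfl
  have hBad' : ∀ x y, y ∉ Bad x → ¬ B.W 1 ⊆ (bb x y) • A.W (g - 1) := fun x y hy hs => hy (hBad x y hs)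
  have hBadc : ∀ x, ¬ A.W (d + 1) ⊆ Bad x := fun x hs => (hmin (a * x)).1 fun v hv => by
    rw [Set.mem_smul_set_iff_inv_smul_mem, smul_eq_mul]
    refine hcap _ fun y hy => ?_
    have h1 := hs hy
    rw [Set.mem_smul_set_iff_inv_smul_mem, smul_eq_mul] at h1
    have h2 : (a * x * e⁻¹)⁻¹ * y * v ∈ B.W (g - 1) := by
      rw [show g - 1 = g - 2 + 1 by omega]; exact B.mul_mem _ _ _ h1 v hv
    rw [h, Set.mem_smul_set_iff_inv_smul_mem, smul_eq_mul] at h2
    refine (congrArg (· ∈ A.W (g - 1)) ?_).mp h2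
    simp only [mul_inv, inv_inv]
    rw [show e⁻¹ * (a⁻¹ * x⁻¹ * e * y * v) = (e⁻¹ * e) * (y * (a⁻¹ * x⁻¹ * v)) by ac_rfl,
      inv_mul_cancel, one_mul]
  -- the points over `x` cannot be doubled
  let Z : G → G → Set G := fun x u => (a * x * e⁻¹ * B.κ * u⁻¹) • (B.W (g - 2))⁻¹
  have hZc : ∀ x u, ¬ A.W (d + 1) ⊆ Z x u := fun x u hs =>
    (hmin ((a * x * e⁻¹ * B.κ * u⁻¹)⁻¹ * e * A.κ)).2 fun v hv => by
      rw [Set.mem_smul_set_iff_inv_smul_mem, smul_eq_mul, Set.mem_inv]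
      refine hcap _ fun y hy => ?_
      have h1 := hs hy
      rw [Set.mem_smul_set_iff_inv_smul_mem, smul_eq_mul, Set.mem_inv] at h1
      have h2 : ((a * x * e⁻¹ * B.κ * u⁻¹)⁻¹ * y)⁻¹ * v ∈ B.W (g - 1) := by
        rw [show g - 1 = g - 2 + 1 by omega]; exact B.mul_mem _ _ _ h1 v hv
      rw [h, ← A.reflect, Set.mem_smul_set_iff_inv_smul_mem, Set.mem_smul_set_iff_inv_smul_mem, smul_eq_mul,
        smul_eq_mul, Set.mem_inv] at h2
      refine (congrArg (· ∈ A.W (g - 1)) ?_).mp h2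
      simp only [mul_inv, inv_inv]
      ac_rfl
  have hZc' : ∀ x u, Cl (Z x u) := fun x u => hCl.smul _ _ (hCl.inv _ (B.closed _))
  -- the divisor of a good pair
  have hdiv : ∀ x y, y ∉ Bad x → ∃ D : Fin g → G, Set.range D = B.W 1 ∩ (bb x y) • A.W (g - 1) ∧
      ∏ i, D i = bb x y * e⁻¹ * B.κ ∧ ∀ i l, i ≠ l → y ∈ Z x (D i * D l) := fun x y hy => by
    have hn := hBad' x y hy
    rw [hBA] at hn
    obtain ⟨D, hD, hp⟩ := B.div _ hn
    refine ⟨D, by rw [hBA]; exact hD, hp, fun i l hil => ?_⟩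
    let s := ((Finset.univ : Finset (Fin g)).erase i).erase l
    have hmem : ∀ t ∈ s, D t ∈ B.W 1 := fun t _ => (hD ▸ Set.mem_range_self t : D t ∈ B.W 1 ∩ _).1
    have hcard : s.card = g - 2 := by
      rw [Finset.card_erase_of_mem (Finset.mem_erase.2 ⟨hil.symm, Finset.mem_univ l⟩),
        Finset.card_erase_of_mem (Finset.mem_univ i), Finset.card_univ, Fintype.card_fin]
      omega
    have hs := B.prod_mem s D hmem
    rw [hcard] at hs
    have hprod : ∏ t, D t = D i * (D l * ∏ t ∈ s, D t) := by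
      rw [← Finset.mul_prod_erase Finset.univ D (Finset.mem_univ i),
        ← Finset.mul_prod_erase _ D (Finset.mem_erase.2 ⟨hil.symm, Finset.mem_univ l⟩)]
    have hval : ∏ t ∈ s, D t = bb x y * e⁻¹ * B.κ * (D i * D l)⁻¹ := by
      rw [← hp, hprod, ← mul_assoc, mul_comm (D i * D l), mul_inv_cancel_right]
    rw [hval] at hs
    rw [Set.mem_smul_set_iff_inv_smul_mem, smul_eq_mul, Set.mem_inv]
    refine (congrArg (· ∈ B.W (g - 2)) ?_).mp hs
    simp only [bb, mul_inv, inv_inv]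
    ac_rfl
  have hfix : ∀ x, x ∈ A.W 1 → ∀ y ∈ A.W (d + 1), (a * x) • A.W r ⊆ (bb x y) • A.W (g - 1) := by
    rintro x - y hy _ ⟨w, hw, rfl⟩
    refine ⟨y * w, hW y hy w hw, ?_⟩
    simp only [bb, smul_eq_mul]
    rw [mul_assoc (a * x), inv_mul_cancel_left]
  have hone : ∀ x ∈ A.W 1, ∀ v₁ ∈ B.W 1 ∩ (a * x) • A.W r, ∀ v₂ ∈ B.W 1 ∩ (a * x) • A.W r, v₁ = v₂ := by
    intro x hx v₁ h₁ v₂ h₂
    by_contra hne
    have hsub' : A.W (d + 1) ⊆ Bad x ∪ Z x (v₁ * v₂) := fun y hy => by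
      by_cases hb : y ∈ Bad x
      · exact Or.inl hb
      obtain ⟨D, hD, -, hZ⟩ := hdiv x y hb
      obtain ⟨i, hi⟩ : v₁ ∈ Set.range D := hD ▸ ⟨h₁.1, hfix x hx y hy h₁.2⟩
      obtain ⟨l, hl⟩ : v₂ ∈ Set.range D := hD ▸ ⟨h₂.1, hfix x hx y hy h₂.2⟩
      refine Or.inr ?_
      rw [← hi, ← hl]
      exact hZ i l fun h0 => hne (by rw [← hi, ← hl, h0])
    exact (A.irred _ _ _ (hCl.smul _ _ (B.closed _)) (hZc' _ _) hsub').elim (hBadc x) (hZc x _)
  -- choose the points and `y`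
  obtain ⟨T, hT, hTc⟩ := A.infinite.exists_subset_card_eq ((g + 1) ^ g * (g + 1) + 1)
  have hQ : ∀ x : G, ∃ q : G, x ∈ A.W 1 → ∀ v ∈ B.W 1 ∩ (a * x) • A.W r, v = q := fun x => by
    by_cases hne : (B.W 1 ∩ (a * x) • A.W r).Nonempty
    · obtain ⟨q, hq⟩ := hne
      exact ⟨q, fun hx v hv => hone x hx v hv q hq⟩
    · exact ⟨1, fun _ v hv => absurd ⟨v, hv⟩ hne⟩
  choose Q hQ using hQ
  obtain ⟨y, hy, hyT⟩ := Set.not_subset.1 (A.not_subset_biUnion hCl (d + 1) T (fun x => Bad x ∪ Z x (Q x * Q x))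
    fun x _ => ⟨hCl.union _ _ (hCl.smul _ _ (B.closed _)) (hZc' _ _),
      fun hs => (A.irred _ _ _ (hCl.smul _ _ (B.closed _)) (hZc' _ _) hs).elim (hBadc x) (hZc x _)⟩).2
  simp only [Set.mem_iUnion, Set.mem_union, exists_prop, not_exists, not_and, not_or] at hyT
  choose D hD hDp hDZ using fun x : T => hdiv x y (hyT x x.2).1
  let S := A.κ • ((y * a⁻¹) • A.W (g - 2))⁻¹
  let F := B.W 1 ∩ (a • A.W (r + 1) ∩ S)
  have hinter : ∀ x ∈ T, B.W 1 ∩ (bb x y) • A.W (g - 1) = B.W 1 ∩ ((a * x) • A.W r ∪ a • A.W (r + 1) ∩ S) :=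
    fun x hx => by
      have hn : ¬ a • A.W (r + 1) ⊆ (bb x y) • A.W (g - 1) := fun hc =>
        hBad' x y (hyT x hx).1 (hsub.trans hc)
      rw [← A.inter r d hrd a (bb x y) x (hT hx) y hy (by simp [bb]) hn, ← Set.inter_assoc,
        Set.inter_eq_left.2 hsub]
  obtain ⟨x₁, hx₁⟩ : T.Nonempty := Finset.card_pos.1 (by omega)
  have hFsub : F ⊆ Set.range (D ⟨x₁, hx₁⟩) := fun v hv => by
    rw [hD, hinter x₁ hx₁]
    exact ⟨hv.1, Or.inr hv.2⟩
  have hFfin : F.Finite := (Set.finite_range _).subset hFsub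
  have hFcard : hFfin.toFinset.card ≤ g := by
    refine (Finset.card_le_card (s := hFfin.toFinset) (t := Finset.univ.image (D ⟨x₁, hx₁⟩)) fun v hv => ?_).trans
      (Finset.card_image_le.trans (le_of_eq (Fintype.card_fin g)))
    obtain ⟨i, hi⟩ := hFsub (hFfin.mem_toFinset.1 hv)
    exact Finset.mem_image.2 ⟨i, Finset.mem_univ i, hi⟩
  let pat : T → Fin g → Option G := fun x i => if D x i ∈ F then some (D x i) else none
  have hout : ∀ (x : T) (i : Fin g), D x i ∉ F → D x i = Q x := fun x i hi => by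
    have h1 : D x i ∈ B.W 1 ∩ ((a * (x : G)) • A.W r ∪ a • A.W (r + 1) ∩ S) := by
      rw [← hinter x x.2, ← hD]; exact Set.mem_range_self i
    exact hQ x (hT x.2) _ ⟨h1.1, h1.2.resolve_right fun h2 => hi ⟨h1.1, h2⟩⟩
  have huniq : ∀ (x : T) (i l : Fin g), D x i ∉ F → D x l ∉ F → i = l := fun x i l hi hl => by
    by_contra hne
    have := hDZ x i l hne
    rw [hout x i hi, hout x l hl] at this
    exact (hyT x x.2).2 this
  let opts := Fintype.piFinset fun _ : Fin g => Finset.insertNone hFfin.toFinset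
  have hopts : opts.card * (g + 1) < (Finset.univ : Finset T).card := by
    rw [Finset.card_univ, Fintype.card_coe, hTc]
    simp only [opts, Fintype.card_piFinset, Finset.card_insertNone, Finset.prod_const, Finset.card_univ,
      Fintype.card_fin]
    exact Nat.lt_succ_of_le (Nat.mul_le_mul_right _ (Nat.pow_le_pow_left (by omega) g))
  obtain ⟨pp, -, hpp⟩ := Finset.exists_lt_card_fiber_of_mul_lt_card_of_maps_to
    (f := pat) (t := opts) (n := g + 1) (fun x _ => Fintype.mem_piFinset.2 fun i => by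
      by_cases hi : D x i ∈ F
      · rw [show pat x i = some (D x i) from if_pos hi]
        exact Finset.some_mem_insertNone.2 (hFfin.mem_toFinset.2 hi)
      · rw [show pat x i = none from if_neg hi]
        exact Finset.none_mem_insertNone) hopts
  set fib := (Finset.univ : Finset T).filter fun x => pat x = pp with hfib
  have hbb : ∀ x : T, bb x y * e⁻¹ * B.κ = (x : G) * (a * y⁻¹ * e⁻¹ * B.κ) := fun x => by
    simp only [bb]; ac_rfl
  by_cases hnone : ∃ i, pp i = none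
  · obtain ⟨i, hi⟩ := hnone
    let c := (∏ l ∈ Finset.univ.erase i, (pp l).getD 1) * (a * y⁻¹ * e⁻¹ * B.κ)⁻¹
    have hx : ∀ x ∈ fib, (x : G) ∈ c • B.W 1 := fun x hx => by
      have hxp : pat x = pp := (Finset.mem_filter.1 hx).2
      have hiF : D x i ∉ F := fun h0 => by simp [← hxp, pat, h0] at hi
      refine ⟨D x i, (hD x ▸ Set.mem_range_self i : D x i ∈ B.W 1 ∩ _).1, ?_⟩
      have hrest : ∏ l ∈ Finset.univ.erase i, (pp l).getD 1 = ∏ l ∈ Finset.univ.erase i, D x l := by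
        refine Finset.prod_congr rfl fun l hl => ?_
        have hlF : D x l ∈ F := by
          by_contra h0
          exact (Finset.mem_erase.1 hl).1 (huniq x l i h0 hiF)
        simp [← hxp, pat, hlF]
      simp only [c, smul_eq_mul]
      rw [hrest, mul_right_comm, mul_comm _ (D x i), Finset.mul_prod_erase _ _ (Finset.mem_univ i), hDp, hbb,
        mul_inv_cancel_right]
    have hAB := A.subset_of_card B hg e h c (fib.map ⟨Subtype.val, Subtype.val_injective⟩) (fun x hx' => by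
      obtain ⟨x', hx'', rfl⟩ := Finset.mem_map.1 hx'
      exact ⟨hT x'.2, hx x' hx''⟩) (by rw [Finset.card_map]; omega)
    exact ⟨c⁻¹, A.eq_of_subset B hg e h c hAB⟩
  · exfalso
    push Not at hnone
    have hval : ∀ x ∈ fib, (x : G) * (a * y⁻¹ * e⁻¹ * B.κ) = ∏ l, (pp l).getD 1 := fun x hx => by
      have hxp : pat x = pp := (Finset.mem_filter.1 hx).2
      rw [← hbb, ← hDp x]
      refine Finset.prod_congr rfl fun l _ => ?_
      have hlF : D x l ∈ F := by
        by_contra h0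
        exact hnone l (by simp [← hxp, pat, h0])
      simp [← hxp, pat, hlF]
    obtain ⟨x, hx, x', hx', hne⟩ := Finset.one_lt_card.1 (show 1 < fib.card by omega)
    exact hne (Subtype.ext (mul_right_cancel ((hval x hx).trans (hval x' hx').symm)))

/-- **Weil's form of Torelli's theorem.** -/
theorem eq_smul_of_eq (hCl : IsClosedFamily Cl) (hg : 2 ≤ g) (e : G) (h : B.W (g - 1) = e • A.W (g - 1)) :
    ∃ c : G, B.W 1 = c • A.W 1 ∨ B.W 1 = c • (A.W 1)⁻¹ := by
  classical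
  let P : ℕ → Prop := fun r => ∃ a : G, B.W 1 ⊆ a • A.W (r + 1) ∨ B.W 1 ⊆ a • (A.W (r + 1))⁻¹
  have hP : P (g - 2) := by
    refine ⟨e, Or.inl fun v hv => ?_⟩
    rw [show g - 2 + 1 = g - 1 by omega, ← h, show g - 1 = g - 2 + 1 by omega, ← one_mul v]
    exact B.mul_mem _ _ 1 (B.one_mem _) v hv
  set r := Nat.find ⟨_, hP⟩ with hr
  have hrg : r ≤ g - 2 := Nat.find_le hP
  obtain ⟨a, ha⟩ := Nat.find_spec (p := P) ⟨_, hP⟩
  have hmin : ∀ c : G, ¬ B.W 1 ⊆ c • A.W r ∧ ¬ B.W 1 ⊆ c • (A.W r)⁻¹ := by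
    intro c
    rcases Nat.eq_zero_or_pos r with h0 | h0
    · rw [h0, A.zero]
      exact ⟨fun hs => B.infinite (((Set.finite_singleton _).smul_set).subset hs),
        fun hs => B.infinite (((Set.finite_singleton _).inv.smul_set).subset hs)⟩
    · have := Nat.find_min (p := P) ⟨_, hP⟩ (m := r - 1) (by omega)
      simp only [P] at this
      rw [show r - 1 + 1 = r by omega] at this
      exact ⟨fun hs => this ⟨c, Or.inl hs⟩, fun hs => this ⟨c, Or.inr hs⟩⟩
  rcases ha with ha | ha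
  · obtain ⟨c, hc⟩ := A.eq_smul_of_minimal B hCl hg e h r (g - 2 - r) (by omega) a ha hmin
    exact ⟨c, Or.inl hc⟩
  · have h' : B.W (g - 1) = (e * A.κ) • (A.neg hCl).W (g - 1) := by
      rw [mul_smul]; show _ = e • A.κ • (A.W (g - 1))⁻¹; rw [A.reflect, h]
    obtain ⟨c, hc⟩ := (A.neg hCl).eq_smul_of_minimal B hCl hg _ h' r (g - 2 - r) (by omega) a ha fun c =>
      ⟨(hmin c).2, by show ¬ _ ⊆ c • ((A.W r)⁻¹)⁻¹; rw [inv_inv]; exact (hmin c).1⟩
    exact ⟨c, Or.inr hc⟩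

end Weil

end Groth.Agent.Torelli
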