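import Groth.Agent.Torelli.Abstract
import Groth.Agent.PicTheta.ThetaLocus
import Groth.Agent.PicCurve.AlbCoarse
import Groth.Agent.PicCurve.Abel
import Groth.Agent.PicCurve.Points

/-!
The rational points of the images of the powers of a curve in its Jacobian form a Weil family.
-/

set_option autoImplicit false
set_option backward.isDefEq.respectTransparency false
set_option backward.isDefEq.respectTransparency.types false
set_option linter.style.haveILetI false
set_option linter.unusedSectionVars false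
set_option maxHeartbeats 1600000

universe u

open CategoryTheory CategoryTheory.Limits AlgebraicGeometry TopologicalSpace MonoidalCategory CartesianMonoidalCategory
open PicF
open scoped MonObj Pointwise
open Groth.Agent.W7Cube (pull pull_pull pull_cls)
open Groth.Agent.SubGen (rpt exists_rpt rpt_mem_closedPoints map_rpt)
open Groth.Agent.PicCurve

attribute [local instance] Groth.Agent.W7Cube.law

noncomputable section

namespace Groth.Agent.Torelli

section Field

variable {k : Type u} [Field k] {C : Scheme.{u}} [C.Over (Spec (CommRingCat.of k))]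
  [IsProper (C ↘ Spec (CommRingCat.of k))] [GeometricallyConnected (C ↘ Spec (CommRingCat.of k))]
  [SmoothOfRelativeDimension 1 (C ↘ Spec (CommRingCat.of k))]
  {σ : {τ : Spec (CommRingCat.of k) ⟶ C // τ ≫ (C ↘ Spec (CommRingCat.of k)) = 𝟙 _}} {J : Over (Spec (CommRingCat.of k))}
  [GrpObj J] {j : Over.mk (C ↘ Spec (CommRingCat.of k)) ⟶ J} (D : JacData σ J j)

/-- The class data carried by an isomorphism of groups. -/
def _root_.Groth.Agent.PicCurve.JacData.mapIso {J' : Over (Spec (CommRingCat.of k))} [GrpObj J'] (β : J ≅ J')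
    [IsMonHom β.hom] : JacData σ J' (j ≫ β.hom) where
  ξ := pull (XTmap (C ↘ Spec (CommRingCat.of k)) β.inv) D.ξ
  proper := by
    haveI := D.proper
    haveI : IsIso β.inv.left := Iso.isIso_inv ((Over.forget _).mapIso β)
    rw [← Over.w β.inv]
    infer_instance
  mem := pull_secT β.inv D.mem
  zero t := (degC_pull (C ↘ Spec (CommRingCat.of k)) β.inv D.ξ t).trans (D.zero _)
  classifies T c hc hz := by
    obtain ⟨u, hu, huu⟩ := D.classifies T c hc hz
    refine ⟨u ≫ β.hom, ?_, fun v hv => ?_⟩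
    · dsimp only
      rw [pull_pull, S12404.XTmap_comp, Category.assoc, Iso.hom_inv_id, Category.comp_id]
      exact hu
    · dsimp only at hv
      rw [pull_pull, S12404.XTmap_comp] at hv
      rw [← huu _ hv, Category.assoc, Iso.inv_hom_id, Category.comp_id]
  mul T p q := by
    rw [pull_pull, pull_pull, pull_pull, S12404.XTmap_comp, S12404.XTmap_comp, S12404.XTmap_comp]
    haveI : IsMonHom β.inv := inferInstance
    rw [Category.assoc, IsMonHom.mul_hom, lift_map_assoc]
    exact D.mul T _ _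
  abel := by
    rw [pull_pull, S12404.XTmap_comp, Category.assoc, Iso.hom_inv_id, Category.comp_id]
    exact D.abel

end Field

variable {k : Type u} [Field k] [IsAlgClosed k] {C : Scheme.{u}} [C.Over (Spec (CommRingCat.of k))]
  [IsProper (C ↘ Spec (CommRingCat.of k))] [Smooth (C ↘ Spec (CommRingCat.of k))]
  [GeometricallyConnected (C ↘ Spec (CommRingCat.of k))] [GeometricallyIrreducible (C ↘ Spec (CommRingCat.of k))]
  [SmoothOfRelativeDimension 1 (C ↘ Spec (CommRingCat.of k))] [IsIntegral C]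
  {σ : {τ : Spec (CommRingCat.of k) ⟶ C // τ ≫ (C ↘ Spec (CommRingCat.of k)) = 𝟙 _}} {J : Over (Spec (CommRingCat.of k))}
  [GrpObj J] {j : Over.mk (C ↘ Spec (CommRingCat.of k)) ⟶ J} (hd : topologicalKrullDim C = 1) (D : JacData σ J j)

/-- The rational points in a set. -/
def pts (Z : Set J.left) : Set ((𝟙_ (Over (Spec (CommRingCat.of k)))) ⟶ J) := {x | rpt x ∈ Z}

theorem mem_pts {Z : Set J.left} {x : (𝟙_ (Over (Spec (CommRingCat.of k)))) ⟶ J} : x ∈ pts Z ↔ rpt x ∈ Z := Iff.rfl

/-- The sets of rational points of closed sets. -/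
def ClPts (A : Set ((𝟙_ (Over (Spec (CommRingCat.of k)))) ⟶ J)) : Prop := ∃ Z : Set J.left, IsClosed Z ∧ A = pts Z

theorem _root_.Groth.Agent.PicCurve.JacData.mapIso_cl {J' : Over (Spec (CommRingCat.of k))} [GrpObj J'] (β : J ≅ J')
    [IsMonHom β.hom] (x : (𝟙_ (Over (Spec (CommRingCat.of k)))) ⟶ J') : (D.mapIso β).cl x = D.cl (x ≫ β.inv) := by
  rw [JacData.cl_apply, JacData.cl_apply, JacData.mapIso, pull_pull, S12404.XTmap_comp]

variable [IsCommMonObj J]

theorem pts_transl (a : (𝟙_ (Over (Spec (CommRingCat.of k)))) ⟶ J) (Z : Set J.left) :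
    pts ((Jac.transl J a).left.base '' Z) = a • pts Z := by
  ext x
  rw [Set.mem_smul_set_iff_inv_smul_mem, smul_eq_mul, mul_comm]
  exact mem_transl_image a Z x

theorem pts_inv (Z : Set J.left) : pts (((𝟙 J)⁻¹).left.base '' Z) = (pts Z)⁻¹ := by
  ext x
  exact mem_inv_image Z x

theorem pts_symSet (r : ℕ) (a : (𝟙_ (Over (Spec (CommRingCat.of k)))) ⟶ J) :
    pts (symSet j r a) = a • pts (Set.range (sumMap j r).left.base) := pts_transl a _

theorem isClosedFamily : IsClosedFamily (ClPts (J := J)) where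
  empty := ⟨∅, isClosed_empty, rfl⟩
  union := by
    rintro _ _ ⟨Z, hZ, rfl⟩ ⟨Z', hZ', rfl⟩
    exact ⟨Z ∪ Z', hZ.union hZ', rfl⟩
  smul := by
    rintro a _ ⟨Z, hZ, rfl⟩
    exact ⟨_, isClosed_transl_image a hZ, (pts_transl a Z).symm⟩
  inv := by
    rintro _ ⟨Z, hZ, rfl⟩
    exact ⟨_, isClosed_inv_image hZ, (pts_inv Z).symm⟩

include hd D

/-- The image of the curve, on rational points. -/
theorem mem_range_one (x : (𝟙_ (Over (Spec (CommRingCat.of k)))) ⟶ J) :
    rpt x ∈ Set.range (sumMap j 1).left.base ↔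
      ∃ τ : {τ : Spec (CommRingCat.of k) ⟶ C // τ ≫ (C ↘ Spec (CommRingCat.of k)) = 𝟙 _},
        (Over.homMk τ.1 τ.2 : (𝟙_ (Over (Spec (CommRingCat.of k)))) ⟶ Over.mk (C ↘ Spec (CommRingCat.of k))) ≫ j = x := by
  rw [D.mem_range hd, pow_one]
  constructor
  · intro h
    obtain ⟨τ, hτ⟩ := exists_points_of_hC k hd (r := 1) _ (by
      rw [degP_mul k hd, D.deg_cl hd, degP_delta k hd]; rfl) h
    rw [Fin.prod_univ_one] at hτ
    refine ⟨τ 0, D.cl_injective hd ?_⟩
    rw [D.cl_abel hd (τ 0), ← hτ, mul_inv_cancel_right]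
  · rintro ⟨τ, rfl⟩
    rw [D.cl_abel hd τ, inv_mul_cancel_right, ← Fin.prod_univ_one fun _ => delta k τ hd]
    exact one_le_hC_prod k hd _

omit [IsCommMonObj J] in
theorem exists_kappa {g : ℕ} (hg : Curv2.genus k C = g) (hg1 : 1 ≤ g) :
    ∃ κ, D.cl κ = canonCl k hd * (delta k σ hd ^ (2 * g - 2))⁻¹ := by
  refine D.exists_cl hd _ ?_
  have h := hC_sub k hd hg (canonCl k hd)
  rw [hC_one k hd (canonCl k hd), mul_inv_cancel, hC_one_zero] at h
  have h0 : hC k (canonCl k hd) 0 = g := by
    have h2 := hC_sub k hd hg (1 : PicLoc.PicSet C)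
    rw [hC_one k hd (1 : PicLoc.PicSet C), inv_one, mul_one, hC_one_zero, degP_one' k hd] at h2
    omega
  rw [degP_mul k hd, degP_inv' k hd, degP_delta_pow k hd]
  omega

/-- The divisor cut out on the curve by a translate of the theta divisor. -/
theorem exists_div {g : ℕ} (hg : Curv2.genus k C = g) (hg1 : 1 ≤ g)
    (κ a : (𝟙_ (Over (Spec (CommRingCat.of k)))) ⟶ J) (hκ : D.cl κ = canonCl k hd * (delta k σ hd ^ (2 * g - 2))⁻¹)
    (h : ¬ pts (Set.range (sumMap j 1).left.base) ⊆ a • pts (Set.range (sumMap j (g - 1)).left.base)) :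
    ∃ P : Fin g → ((𝟙_ (Over (Spec (CommRingCat.of k)))) ⟶ J),
      Set.range P = pts (Set.range (sumMap j 1).left.base) ∩ a • pts (Set.range (sumMap j (g - 1)).left.base) ∧
      ∏ i, P i = a * κ := by
  obtain ⟨n, rfl⟩ : ∃ n, g = n + 1 := ⟨g - 1, by omega⟩
  rw [← pts_symSet] at h ⊢
  set δ₀ := delta k σ hd with hδ₀
  set c := D.cl (a * κ) * δ₀ ^ (n + 1) with hc
  have hdeg : degP k c = (n + 1 : ℕ) := D.deg_shift_one hd (n + 1) (a * κ)
  -- membership in the translate
  have key : ∀ τ : {τ : Spec (CommRingCat.of k) ⟶ C // τ ≫ (C ↘ Spec (CommRingCat.of k)) = 𝟙 _},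
      rpt ((Over.homMk τ.1 τ.2 : (𝟙_ (Over (Spec (CommRingCat.of k)))) ⟶ Over.mk (C ↘ Spec (CommRingCat.of k))) ≫ j) ∈
        symSet j n a ↔ 1 ≤ hC k (c * (delta k τ hd)⁻¹) 0 := fun τ => by
    have hd' : degP k (c * (delta k τ hd)⁻¹) = n := by
      rw [degP_mul k hd, degP_inv' k hd, hdeg, degP_delta k hd]; omega
    have hs := hC_sub k hd hg (c * (delta k τ hd)⁻¹)
    rw [hd', hC_one k hd] at hs
    rw [D.mem_symSet hd, D.cl_abel hd τ]
    have e : delta k τ hd * (delta k σ hd)⁻¹ * (D.cl a)⁻¹ * delta k σ hd ^ n =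
        canonCl k hd * (c * (delta k τ hd)⁻¹)⁻¹ := by
      rw [hc, map_mul, hκ, show 2 * (n + 1) - 2 = 2 * n by omega, hδ₀]
      apply Additive.ofMul.injective; simp only [ofMul_mul, ofMul_inv, ofMul_pow]; module
    rw [e]
    push_cast at hs
    omega
  obtain ⟨x, hx, hxa⟩ := Set.not_subset.1 h
  obtain ⟨τ₀, rfl⟩ := (mem_range_one hd D x).1 hx
  have hxa' : ¬ 1 ≤ hC k (c * (delta k τ₀ hd)⁻¹) 0 := fun h' => hxa ((key τ₀).2 h')
  have hc0 : hC k c 0 = 1 := by
    have h1 : hC k c 1 ≤ hC k (c * (delta k τ₀ hd)⁻¹) 1 := by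
      rw [hC_one k hd, hC_one k hd]
      refine (hC_le_mul_delta k hd _ τ₀).trans_eq (congrArg (fun e => hC k e 0) ?_)
      apply Additive.ofMul.injective; simp only [ofMul_mul, ofMul_inv]; module
    have h2 := hC_sub k hd hg c
    have h3 := hC_sub k hd hg (c * (delta k τ₀ hd)⁻¹)
    rw [hdeg] at h2
    rw [degP_mul k hd, degP_inv' k hd, hdeg, degP_delta k hd] at h3
    push_cast at h2 h3
    omega
  obtain ⟨τ, hτ⟩ := exists_points_of_hC k hd c hdeg hc0.ge
  refine ⟨fun i => (Over.homMk (τ i).1 (τ i).2 : (𝟙_ (Over (Spec (CommRingCat.of k)))) ⟶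
    Over.mk (C ↘ Spec (CommRingCat.of k))) ≫ j, ?_, D.cl_injective hd ?_⟩
  · refine subset_antisymm ?_ ?_
    · rintro _ ⟨i, rfl⟩
      refine ⟨(mem_range_one hd D _).2 ⟨τ i, rfl⟩, (key (τ i)).2 ?_⟩
      rw [hτ, Fin.prod_univ_succAbove _ i, mul_comm (delta k (τ i) hd), mul_inv_cancel_right]
      exact one_le_hC_prod k hd _
    · rintro x ⟨hx, hxa⟩
      obtain ⟨ρ, rfl⟩ := (mem_range_one hd D x).1 hx
      obtain ⟨τ', hτ'⟩ := exists_points_of_hC k hd (r := n) _ (by
        rw [degP_mul k hd, degP_inv' k hd, hdeg, degP_delta k hd]; omega) ((key ρ).1 hxa)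
      obtain ⟨e, he⟩ := PicTheta.exists_perm_of_hC_eq_one hd hg le_rfl τ (Fin.cons ρ τ') (by
        rw [← hτ, Fin.prod_univ_succ]
        simp only [Fin.cons_zero, Fin.cons_succ]
        rw [← hτ', mul_comm (delta k ρ hd), inv_mul_cancel_right]) (hτ ▸ hc0)
      refine ⟨e 0, ?_⟩
      have h0 := he 0
      rw [Fin.cons_zero] at h0
      subst h0
      rfl
  · refine mul_right_cancel (b := δ₀ ^ (n + 1)) (Eq.trans ?_ hτ.symm)
    rw [map_prod, ← Fin.prod_const, ← Finset.prod_mul_distrib]
    refine Finset.prod_congr rfl fun i _ => ?_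
    rw [D.cl_abel hd (τ i), inv_mul_cancel_right]

/-- The Abel map is a closed immersion, given that the curve embeds through it. -/
theorem infinite_range_one (hcl : IsClosedImmersion j.left) :
    (pts (Set.range (sumMap j 1).left.base)).Infinite := by
  have hinf : Infinite ((𝟙_ (Over (Spec (CommRingCat.of k)))) ⟶ Over.mk (C ↘ Spec (CommRingCat.of k))) := by
    by_contra hfin
    rw [not_infinite_iff_finite] at hfin
    haveI : LocallyOfFiniteType (Over.mk (C ↘ Spec (CommRingCat.of k))).hom :=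
      inferInstanceAs (LocallyOfFiniteType (C ↘ Spec (CommRingCat.of k)))
    refine infinite_closedPoints (C ↘ Spec (CommRingCat.of k)) hd ((Set.finite_range
      (rpt (Y := Over.mk (C ↘ Spec (CommRingCat.of k))))).subset fun w hw => ?_)
    obtain ⟨q, hq⟩ := exists_rpt (Y := Over.mk (C ↘ Spec (CommRingCat.of k))) hw
    exact ⟨q, hq⟩
  refine (Set.infinite_range_of_injective (f := fun q : (𝟙_ (Over (Spec (CommRingCat.of k)))) ⟶
    Over.mk (C ↘ Spec (CommRingCat.of k)) => q ≫ j) fun p q h => ?_).mono ?_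
  · haveI := hcl
    exact Over.OverMorphism.ext ((cancel_mono j.left).1 (congrArg CommaMorphism.left h))
  · rintro _ ⟨q, rfl⟩
    exact (mem_range_one hd D _).2 ⟨⟨q.left, Over.w q⟩, rfl⟩

/-- The rational points of the images of the powers of the curve form a Weil family. -/
theorem exists_weil {g : ℕ} (hg : Curv2.genus k C = g) (hg1 : 1 ≤ g) (hcl : IsClosedImmersion j.left) :
    ∃ A : Weil (ClPts (J := J)) g, ∀ n, A.W n = pts (Set.range (sumMap j n).left.base) := by
  haveI := D.proper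
  obtain ⟨κ, hκ⟩ := exists_kappa hd D hg hg1
  have hclosed : ∀ n, IsClosed (Set.range (sumMap j n).left.base) := fun n =>
    symSet_one (j := j) n ▸ D.isClosed_symSet n 1
  refine ⟨⟨fun n => pts (Set.range (sumMap j n).left.base), κ, fun n => ?_, fun m n x hx y hy => ?_,
    fun n => ⟨_, hclosed n, rfl⟩, fun n A B hA hB hAB => ?_, infinite_range_one hd D hcl, ?_,
    fun r hr a b => ?_, ?_, fun r e he a b x hx y hy hab hn => ?_, fun a ha => exists_div hd D hg hg1 κ a hκ ha⟩,
    fun n => rfl⟩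
  · rw [mem_pts, D.mem_range hd, map_one, one_mul, ← Fin.prod_const]
    exact one_le_hC_prod k hd _
  · rw [mem_pts] at hx hy ⊢
    rw [D.mem_range hd] at hx hy
    rw [D.mem_range hd, map_mul, pow_add, mul_mul_mul_comm]
    exact one_le_hC_mul k hd _ _ (D.deg_shift_one hd n y) hx hy
  · obtain ⟨Za, hZa, rfl⟩ := hA
    obtain ⟨Zb, hZb, rfl⟩ := hB
    haveI := irreducibleSpace_powOver (C ↘ Spec (CommRingCat.of k)) n
    haveI : IrreducibleSpace (Over.mk (WidePullback.base fun (_ : Fin n) => (C ↘ Spec (CommRingCat.of k)))).left :=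
      irreducibleSpace_powOver (C ↘ Spec (CommRingCat.of k)) n
    have hir : IsIrreducible (Set.range (sumMap j n).left.base) := by
      rw [← Set.image_univ]
      exact (IrreducibleSpace.isIrreducible_univ _).image _ (sumMap j n).left.continuous.continuousOn
    refine (isPreirreducible_iff_isClosed_union_isClosed.1 hir.2 Za Zb hZa hZb
      (subset_of_rpt (hclosed n) (hZa.union hZb) fun x hx => hAB hx)).imp
      (fun h x hx => h hx) fun h x hx => h hx
  · ext x
    rw [mem_pts, D.mem_range hd, pow_zero, mul_one, Set.mem_singleton_iff]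
    constructor
    · intro h
      obtain ⟨τ, hτ⟩ := exists_points_of_hC k hd (r := 0) _ (by rw [D.deg_cl hd]; rfl) h
      exact D.cl_injective hd (by rw [hτ, map_one, Fin.prod_univ_zero])
    · rintro rfl
      rw [map_one, ← Fin.prod_univ_zero (fun i : Fin 0 => delta k (i.elim0 : {τ : Spec (CommRingCat.of k) ⟶ C //
        τ ≫ (C ↘ Spec (CommRingCat.of k)) = 𝟙 _}) hd)]
      exact one_le_hC_prod k hd _
  · dsimp only
    rw [← pts_symSet r a, ← pts_symSet (g - 1) b, ← pts_symSet (g - 1 - r) b]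
    have h := D.symSet_subset_iff hd hg r (g - 1 - r) (by omega) a b
    rw [show r + (g - 1 - r) = g - 1 by omega] at h
    refine Iff.trans ⟨fun hs => ?_, fun hs x hx => hs hx⟩ h
    exact subset_of_rpt (D.isClosed_symSet r a) (D.isClosed_symSet (g - 1) b) fun x hx => hs hx
  · have h := congrArg pts (D.reflect_symSet hd hg hg1 κ 1 hκ)
    rw [pts_transl, pts_inv, pts_symSet, pts_symSet, inv_one, one_smul] at h
    exact h
  · dsimp only at hn ⊢
    rw [← pts_symSet (r + 1) a, ← pts_symSet (g - 1) b] at hn ⊢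
    have h := congrArg pts (D.inter_eq_union hd hg r e he κ a b x y hκ hx hy hab fun hs => hn fun z hz => hs hz)
    rw [← pts_symSet r (a * x), ← pts_symSet (g - 2) (y * a⁻¹), ← pts_inv, ← pts_transl]
    exact h

end Groth.Agent.Torelli
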